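import Groth.Prelude.Def_Hyper2
import Mathlib.AlgebraicTopology.SimplicialObject.ChainHomotopy

/-!
# Simplicial homotopies induce the same maps on Čech cohomology
-/

set_option autoImplicit false
set_option linter.style.haveILetI false

open CategoryTheory CategoryTheory.Limits Opposite AlgebraicTopology Simplicial

namespace Groth.Agent.HyperHtpy

universe v u v' u'

variable {F : Type u} [Category.{v} F] {A : Type u'} [Category.{v'} A] [Preadditive A] (E : Fᵒᵖ ⥤ A)
  {K L : SimplicialObject F} {a b : L ⟶ K}

/-- The cosimplicial map induced by a map of simplicial objects under a contravariant functor. -/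
abbrev coMap (a : L ⟶ K) : (K.rightOp ⋙ E : CosimplicialObject A) ⟶ L.rightOp ⋙ E :=
  Functor.whiskerRight (NatTrans.rightOp a) E

lemma coface_d (K : SimplicialObject F) (n : ℕ) :
    ((alternatingCofaceMapComplex A).obj (K.rightOp ⋙ E)).d n (n + 1) =
      (((alternatingFaceMapComplex Aᵒᵖ).obj (K ⋙ E.rightOp)).d (n + 1) n).unop := by
  simp only [alternatingCofaceMapComplex, AlternatingCofaceMapComplex.obj, CochainComplex.of_d,
    alternatingFaceMapComplex_obj_d, AlternatingFaceMapComplex.objD, AlternatingCofaceMapComplex.objD,
    unop_sum, unop_zsmul]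
  rfl

/-- The cochain homotopy. -/
noncomputable def cochainHomotopy (H : SimplicialObject.Homotopy a b) :
    _root_.Homotopy ((alternatingCofaceMapComplex A).map (coMap E a))
      ((alternatingCofaceMapComplex A).map (coMap E b)) where
  hom i j := ((H.whiskerRight E.rightOp).toChainHomotopy.hom j i).unop
  zero i j h := (congrArg Quiver.Hom.unop ((H.whiskerRight E.rightOp).toChainHomotopy.zero j i (by simpa using h))).trans rfl
  comm n := by
    have hc := congrArg Quiver.Hom.unop ((H.whiskerRight E.rightOp).toChainHomotopy.comm n)
    cases n with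
    | zero =>
      rw [dNext_eq_zero _ _ (by simp), prevD_eq (j' := 1) (w := by simp), zero_add, unop_add, unop_comp] at hc
      rw [dNext_eq (i' := 1) (w := by simp), prevD_eq_zero _ _ (by simp), add_zero, coface_d]
      exact hc
    | succ n =>
      rw [dNext_eq (i' := n) (w := by simp), prevD_eq (j' := n + 2) (w := by simp), unop_add, unop_add, unop_comp, unop_comp] at hc
      rw [dNext_eq (i' := n + 2) (w := by simp), prevD_eq (j' := n) (w := by simp), coface_d, coface_d]
      exact hc.trans (congrArg (· + _) (add_comm _ _))

end Groth.Agent.HyperHtpy
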